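/-
Indecomposable symmetric algebras whose centre has dimension at most two.

* `exists_idempotent_of_center_le_two` : such an algebra is `M_n(L)` with `dim L ≤ 2`: it has an
  idempotent `f` with `dim A = c n²` and `dim A f = c n`, `c ≤ 2`
-/
import Cfsg.Agent.EqLemmas

set_option autoImplicit false
set_option linter.style.haveILetI false

namespace Cfsg.Agent.BlockTwo

open Matrix Module

variable {k : Type*} [Field k] {A : Type*} [Ring A] [Algebra k A]

/-- Linear functionals with `T (a * b) = T (b * a)`. -/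
def traceForms (k : Type*) [Field k] (A : Type*) [Ring A] [Algebra k A] :
    Submodule k (Dual k A) where
  carrier := {T | ∀ a b, T (a * b) = T (b * a)}
  zero_mem' := fun _ _ => rfl
  add_mem' := fun hS hT a b => by simp [hS a b, hT a b]
  smul_mem' := fun c _ hT a b => by simp [hT a b]

theorem finrank_traceForms_le [FiniteDimensional k A] (τ : Dual k A)
    (hsymm : ∀ a b, τ (a * b) = τ (b * a)) (hnd : ∀ a, (∀ b, τ (a * b) = 0) → a = 0) :
    finrank k (traceForms k A) ≤ finrank k (Subalgebra.center k A) := by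
  let Φ : A →ₗ[k] Dual k A := (LinearMap.mul k A).compr₂ τ
  have hΦ : ∀ a b, Φ a b = τ (a * b) := fun a b => rfl
  have hinj : Function.Injective Φ := by
    rw [← LinearMap.ker_eq_bot, LinearMap.ker_eq_bot']
    exact fun a ha => hnd a fun b => by rw [← hΦ, ha, LinearMap.zero_apply]
  have hsurj : Function.Surjective Φ :=
    (LinearMap.injective_iff_surjective_of_finrank_eq_finrank (Subspace.dual_finrank_eq).symm).mp hinj
  have hle : traceForms k A ≤ (Subalgebra.toSubmodule (Subalgebra.center k A)).map Φ := by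
    intro T hT
    obtain ⟨z, rfl⟩ := hsurj T
    refine ⟨z, (Subalgebra.mem_center_iff (R := k)).mpr fun y => sub_eq_zero.mp (hnd _ fun b => ?_), rfl⟩
    have h := hT y b
    rw [hΦ, hΦ] at h
    rw [sub_mul, map_sub, sub_eq_zero, mul_assoc, mul_assoc, hsymm y, mul_assoc, h]
  exact (Submodule.finrank_mono hle).trans (Submodule.finrank_map_le _ _)

/-- Lifting matrix units. -/
theorem exists_matrix_units {n : ℕ} [NeZero n] (π : A →ₐ[k] Matrix (Fin n) (Fin n) k)
    (hπ : Function.Surjective π) (hker : ∀ x, π x = 0 → IsNilpotent x) :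
    ∃ (f : Fin n → A) (u w : Fin n → A), CompleteOrthogonalIdempotents f ∧
      (∀ i, π (f i) = Matrix.single i i 1) ∧
      (∀ i, f 0 * u i = u i ∧ u i * f i = u i ∧ f i * w i = w i ∧ w i * f 0 = w i ∧
        u i * w i = f 0 ∧ w i * u i = f i) := by
  have hk : ∀ x ∈ RingHom.ker π.toRingHom, IsNilpotent x := fun x hx => hker x hx
  have hE : CompleteOrthogonalIdempotents fun i : Fin n => Matrix.single i i (1 : k) :=
    { idem := fun i => by simp [IsIdempotentElem]
      ortho := fun i j hij => Matrix.single_mul_single_of_ne (c := (1 : k)) i i j hij 1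
      complete := Matrix.sum_single_one }
  obtain ⟨f, hf, hπf⟩ := CompleteOrthogonalIdempotents.lift_of_isNilpotent_ker π.toRingHom hk hE
    fun i => hπ _
  have hπf' : ∀ i, π (f i) = Matrix.single i i 1 := fun i => congrFun hπf i
  have hff : ∀ i, f i * f i = f i := fun i => hf.idem i
  suffices ∀ i, ∃ u w : A, f 0 * u = u ∧ u * f i = u ∧ f i * w = w ∧ w * f 0 = w ∧
      u * w = f 0 ∧ w * u = f i by
    choose u w h using this
    exact ⟨f, u, w, hf, hπf', h⟩
  intro i
  obtain ⟨u₀, hu₀⟩ := hπ (Matrix.single (0 : Fin n) i 1)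
  obtain ⟨w₀, hw₀⟩ := hπ (Matrix.single i (0 : Fin n) 1)
  set u₁ := f 0 * u₀ * f i with hu₁
  set w := f i * w₀ * f 0 with hw
  have hu₁π : π u₁ = Matrix.single (0 : Fin n) i 1 := by simp [hu₁, hπf', hu₀]
  have hwπ : π w = Matrix.single i (0 : Fin n) 1 := by simp [hw, hπf', hw₀]
  obtain ⟨N, hN⟩ := hker (f 0 - u₁ * w) (by simp [hπf', hu₁π, hwπ])
  set j := f 0 - u₁ * w with hj
  have e0u : f 0 * u₁ = u₁ := by rw [hu₁, ← mul_assoc, ← mul_assoc, hff]
  have eui : u₁ * f i = u₁ := by rw [hu₁, mul_assoc, hff]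
  have eiw : f i * w = w := by rw [hw, ← mul_assoc, ← mul_assoc, hff]
  have ew0 : w * f 0 = w := by rw [hw, mul_assoc, hff]
  have hj0 : f 0 * j = j := by rw [hj, mul_sub, hff, ← mul_assoc, e0u]
  have hj1 : j * f 0 = j := by rw [hj, sub_mul, hff, mul_assoc, ew0]
  -- geometric series
  set v := f 0 * (∑ l ∈ Finset.range (N + 1), j ^ l) * f 0 with hv
  have hv1 : v * (f 0 - j) = f 0 := by
    have hg := geom_sum_mul_neg j (N + 1)
    rw [pow_succ, hN, zero_mul, sub_zero] at hg
    have hc : f 0 * (f 0 - j) = (1 - j) * f 0 := by rw [mul_sub, hff, hj0, sub_mul, one_mul, hj1]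
    rw [hv, mul_assoc, hc, mul_assoc, ← mul_assoc _ (1 - j), hg, one_mul, hff]
  set u := v * u₁ with hu
  have huw : u * w = f 0 := by
    rw [hu, mul_assoc, show u₁ * w = f 0 - j by rw [hj, sub_sub_cancel], hv1]
  have e0u' : f 0 * u = u := by rw [hu, hv]; simp only [← mul_assoc, hff]
  have eui' : u * f i = u := by rw [hu, mul_assoc, eui]
  refine ⟨u, w, e0u', eui', eiw, ew0, huw, ?_⟩
  have hπu : π u = Matrix.single (0 : Fin n) i 1 := by
    have h := congrArg π huw
    have hj' : π j = 0 := by simp [hj, hπf', hu₁π, hwπ]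
    have hv' : π v = Matrix.single (0 : Fin n) 0 1 := by
      have h' := congrArg π hv1
      rw [map_mul, map_sub, hj', sub_zero, hπf'] at h'
      have h0 : π v * Matrix.single (0 : Fin n) 0 1 = π v := by
        rw [← hπf', ← map_mul, hv, mul_assoc, hff]
      rw [h0] at h'
      exact h'
    rw [hu, map_mul, hv', hu₁π]
    simp
  have hidem : IsIdempotentElem (w * u) := by
    show w * u * (w * u) = w * u
    rw [mul_assoc, ← mul_assoc u, huw, e0u']
  have hc1 : f i * (w * u) = w * u := by rw [← mul_assoc, eiw]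
  have hc2 : w * u * f i = w * u := by rw [mul_assoc, eui']
  exact eq_of_isNilpotent_sub_of_isIdempotentElem_of_commute hidem (hf.idem i)
    (hker _ (by simp [hπf', hπu, hwπ])) (hc2.trans hc1.symm)

theorem pow_mem_ideal_pow {J : Ideal A} {x : A} (hx : x ∈ J) (m : ℕ) :
    x ^ (m + 1) ∈ J ^ (m + 1) := by
  induction m with
  | zero => rw [pow_one, Submodule.pow_one]; exact hx
  | succ m ih => rw [pow_succ x, Submodule.pow_succ]; exact Submodule.mul_mem_mul ih hx

theorem isNilpotent_of_mem {J : Ideal A} {x : A} (hx : x ∈ J) {N : ℕ} (hN : J ^ N = 0) :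
    IsNilpotent x := ⟨N + 1, by
  have := pow_mem_ideal_pow hx N
  rw [Submodule.pow_succ, hN, zero_mul, Submodule.zero_eq_bot, Submodule.mem_bot] at this
  exact this⟩

/-- The matrix case. -/
theorem exists_idempotent_of_matrix [FiniteDimensional k A] (hTF : finrank k (traceForms k A) ≤ 2)
    {n : ℕ} [NeZero n] (π : A →ₐ[k] Matrix (Fin n) (Fin n) k) (hπ : Function.Surjective π)
    (J : Ideal A) (hJ : ∀ x, x ∈ J ↔ π x = 0) (hnil : IsNilpotent J) :
    ∃ (f : A) (c : ℕ), IsIdempotentElem f ∧ c ≤ 2 ∧ finrank k A = c * (n * n) ∧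
      finrank k (LinearMap.range (LinearMap.mulRight k f)) = c * n := by
  obtain ⟨N, hN⟩ := hnil
  have hker : ∀ x, π x = 0 → IsNilpotent x := fun x hx => isNilpotent_of_mem ((hJ x).mpr hx) hN
  obtain ⟨f, u, w, hf, hπf, huw⟩ := exists_matrix_units π hπ hker
  set e := f 0 with he
  have hee : e * e = e := hf.idem 0
  -- the corner
  let L : Submodule k A :=
    { carrier := {x | e * x = x ∧ x * e = x}
      zero_mem' := ⟨mul_zero _, zero_mul _⟩
      add_mem' := fun {x y} hx hy => ⟨by rw [mul_add, hx.1, hy.1], by rw [add_mul, hx.2, hy.2]⟩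
      smul_mem' := fun c x hx => ⟨by rw [mul_smul_comm, hx.1], by rw [smul_mul_assoc, hx.2]⟩ }
  have hcorner : ∀ a i l, u i * a * w l ∈ L := fun a i l =>
    ⟨by rw [← mul_assoc, ← mul_assoc, (huw i).1], by rw [mul_assoc, (huw l).2.2.2.1]⟩
  have hLmul : ∀ x ∈ L, ∀ y ∈ L, x * y ∈ L := fun x hx y hy =>
    ⟨by rw [← mul_assoc, hx.1], by rw [mul_assoc, hy.2]⟩
  -- the trace to the corner
  let Tu : A →ₗ[k] A :=
    ∑ i, (LinearMap.mulRight k (w i)).comp (LinearMap.mulLeft k (u i))
  have hTu : ∀ a, Tu a = ∑ i, u i * a * w i := fun a => by simp [Tu]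
  have hTuL : ∀ a, Tu a ∈ L := fun a => by rw [hTu]; exact L.sum_mem fun i _ => hcorner a i i
  have hu0 : u 0 * w 0 = e := (huw 0).2.2.2.2.1
  have hw0 : w 0 * u 0 = e := (huw 0).2.2.2.2.2
  have hsum : ∀ a b, a * b = ∑ l, a * w l * (u l * b) := fun a b => by
    conv_lhs => rw [← mul_one a, ← hf.complete, Finset.mul_sum, Finset.sum_mul]
    exact Finset.sum_congr rfl fun l _ => by rw [← (huw l).2.2.2.2.2]; simp only [mul_assoc]
  -- key: commutators of `A` go to commutators of the corner
  have key : ∀ W : Submodule k L,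
      (∀ x y : L, ∀ z z' : L, (z : A) = x * y → (z' : A) = y * x → z - z' ∈ W) →
      finrank k (L ⧸ W) ≤ 2 := by
    intro W hW
    let Ψ : Dual k (L ⧸ W) →ₗ[k] Dual k A :=
      (W.mkQ.comp (Tu.codRestrict L hTuL)).dualMap
    have hmem : ∀ φ, Ψ φ ∈ traceForms k A := by
      intro φ a b
      show φ (W.mkQ ⟨Tu (a * b), hTuL _⟩) = φ (W.mkQ ⟨Tu (b * a), hTuL _⟩)
      have e1 : ∀ a b, (⟨Tu (a * b), hTuL _⟩ : L) =
          ∑ i, ∑ l, (⟨(u i * a * w l) * (u l * b * w i),
            hLmul _ (hcorner a i l) _ (hcorner b l i)⟩ : L) := by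
        intro a b
        refine Subtype.ext ?_
        simp only [Submodule.coe_sum]
        rw [hTu]
        refine Finset.sum_congr rfl fun i _ => ?_
        rw [← mul_assoc (u i) a b, hsum (u i * a) b, Finset.sum_mul]
        exact Finset.sum_congr rfl fun l _ => by simp only [mul_assoc]
      congr 1
      rw [← sub_eq_zero, ← map_sub, Submodule.mkQ_apply, Submodule.Quotient.mk_eq_zero, e1 a b, e1 b a]
      conv in (∑ i, ∑ l, _) - _ => arg 2; rw [Finset.sum_comm]
      rw [← Finset.sum_sub_distrib]
      refine W.sum_mem fun i _ => ?_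
      rw [← Finset.sum_sub_distrib]
      exact W.sum_mem fun l _ => hW ⟨_, hcorner a i l⟩ ⟨_, hcorner b l i⟩ _ _ rfl rfl
    have hid : ∀ x : L, Tu (u 0 * w 0 * (w 0 * (x : A) * u 0) * (u 0 * w 0)) = x := by
      intro x
      have hw0e : e * w 0 = w 0 := (huw 0).2.2.1
      have hu0e : u 0 * e = u 0 := (huw 0).2.1
      rw [hu0, ← mul_assoc e, ← mul_assoc e, hw0e, mul_assoc _ (u 0) e, hu0e, hTu,
        Finset.sum_eq_single 0]
      · rw [← mul_assoc, ← mul_assoc, hu0, mul_assoc, hu0, x.2.1, x.2.2]
      · intro i _ hi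
        have : u i * w 0 = 0 := by
          rw [← (huw i).2.1, ← hw0e, mul_assoc, ← mul_assoc (f i), hf.ortho hi, zero_mul, mul_zero]
        rw [← mul_assoc, ← mul_assoc, this]
        simp
      · simp
    have hinj : Function.Injective Ψ := by
      refine LinearMap.dualMap_injective_of_surjective fun q => ?_
      obtain ⟨x, rfl⟩ := Submodule.mkQ_surjective W q
      exact ⟨_, congrArg W.mkQ (Subtype.ext (hid x))⟩
    have h := LinearMap.finrank_le_finrank_of_injective
      (f := Ψ.codRestrict (traceForms k A) hmem) (fun a b h => hinj (congrArg Subtype.val h))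
    rw [Subspace.dual_finrank_eq] at h
    exact h.trans hTF
  -- the radical of the corner
  let Jk : Submodule k A := J.restrictScalars k
  let M : Submodule k A := L ⊓ Jk
  have heL : e ∈ L := ⟨hee, hee⟩
  have hML : M * M ≤ M := Submodule.mul_le.mpr fun x hx y hy =>
    ⟨hLmul x hx.1 y hy.1, J.mul_mem_left x hy.2⟩
  have hscal : ∀ x ∈ L, ∃ c : k, x - c • e ∈ M := by
    intro x hx
    refine ⟨π x 0 0, L.sub_mem hx (L.smul_mem _ heL), (hJ _).mpr ?_⟩
    have h0 : π x = Matrix.single 0 0 1 * π x * Matrix.single 0 0 1 := by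
      rw [← hπf, ← map_mul, ← map_mul, ← he, hx.1, hx.2]
    rw [map_sub, map_smul, he, hπf, h0, sub_eq_zero]
    ext i l
    by_cases hi : i = 0 <;> by_cases hl : l = 0 <;>
      simp [Matrix.mul_apply, Matrix.single_apply, hi, hl, Ne.symm, eq_comm]
  have hMMle : M * M ≤ L := hML.trans inf_le_left
  obtain ⟨a, haM, hgen⟩ : ∃ a ∈ M, M ≤ Submodule.span k {a} ⊔ M * M := by
    by_cases h : M ≤ M * M
    · exact ⟨0, M.zero_mem, h.trans le_sup_right⟩
    obtain ⟨a, ha, ha'⟩ := SetLike.not_le_iff_exists.mp h
    refine ⟨a, ha, fun b hb => ?_⟩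
    by_contra hb'
    let W : Submodule k L := (M * M).comap L.subtype
    have hW : ∀ x y : L, ∀ z z' : L, (z : A) = x * y → (z' : A) = y * x → z - z' ∈ W := by
      intro x y z z' hz hz'
      show ((z - z' : L) : A) ∈ M * M
      obtain ⟨c, hc⟩ := hscal x x.2
      obtain ⟨d, hd⟩ := hscal y y.2
      have : (z : A) - z' = ((x : A) - c • e) * ((y : A) - d • e) - ((y : A) - d • e) * ((x : A) - c • e) := by
        simp only [sub_mul, mul_sub, smul_mul_assoc, mul_smul_comm, x.2.1, x.2.2, y.2.1, y.2.2, hee,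
          hz, hz', smul_sub, smul_smul, mul_comm c d]
        abel
      rw [Submodule.coe_sub, this]
      exact (M * M).sub_mem (Submodule.mul_mem_mul hc hd) (Submodule.mul_mem_mul hd hc)
    let g : Fin 3 → L ⧸ W := ![W.mkQ ⟨e, heL⟩, W.mkQ ⟨a, ha.1⟩, W.mkQ ⟨b, hb.1⟩]
    have hind : LinearIndependent k g := by
      rw [Fintype.linearIndependent_iff]
      intro c hc
      simp only [Fin.sum_univ_three, g, Matrix.cons_val_zero, Matrix.cons_val_one,
        Matrix.cons_val] at hc
      rw [← map_smul, ← map_smul, ← map_smul, ← map_add, ← map_add, Submodule.mkQ_apply,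
        Submodule.Quotient.mk_eq_zero] at hc
      have hc' : c 0 • e + c 1 • a + c 2 • b ∈ M * M := hc
      have h0 : c 0 = 0 := by
        have hm : c 0 • e + c 1 • a + c 2 • b ∈ Jk := (hML hc').2
        have hm2 : c 0 • e ∈ Jk := by
          have := Jk.sub_mem hm (Jk.add_mem (Jk.smul_mem (c 1) ha.2) (Jk.smul_mem (c 2) hb.2))
          simpa [add_assoc] using this
        have hm3 : π (c 0 • e) = 0 := (hJ _).mp hm2
        rw [map_smul, he, hπf] at hm3
        simpa using congrFun (congrFun hm3 0) 0
      rw [h0, zero_smul, zero_add] at hc'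
      have h2 : c 2 = 0 := by
        by_contra h2
        refine hb' ?_
        rw [show b = (c 2)⁻¹ • (c 1 • a + c 2 • b) - ((c 2)⁻¹ * c 1) • a by
          simp [smul_add, smul_smul, h2]]
        exact Submodule.sub_mem _ (Submodule.smul_mem _ _ (Submodule.mem_sup_right hc'))
          (Submodule.mem_sup_left (Submodule.smul_mem _ _ (Submodule.mem_span_singleton_self a)))
      rw [h2, zero_smul, add_zero] at hc'
      have h1 : c 1 = 0 := by
        by_contra h1
        refine ha' ?_
        rw [show a = (c 1)⁻¹ • (c 1 • a) by rw [smul_smul, inv_mul_cancel₀ h1, one_smul]]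
        exact Submodule.smul_mem _ _ hc'
      intro i
      fin_cases i <;> assumption
    have := hind.fintype_card_le_finrank.trans (key W hW)
    simp at this
  let P : Submodule k A := Subalgebra.toSubmodule (Algebra.adjoin k {a})
  have haP : a ∈ P := Algebra.self_mem_adjoin_singleton k a
  have hstep : ∀ m : ℕ, M ^ (m + 1) ≤ P ⊔ M ^ (m + 2) := by
    intro m
    induction m with
    | zero =>
      rw [pow_one, pow_two]
      refine hgen.trans (sup_le_sup_right ((Submodule.span_singleton_le_iff_mem _ _).mpr haP) _)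
    | succ m ih =>
      calc M ^ (m + 2) = M * M ^ (m + 1) := pow_succ' M (m + 1)
        _ ≤ (Submodule.span k {a} ⊔ M * M) * M ^ (m + 1) := mul_le_mul' hgen le_rfl
        _ = Submodule.span k {a} * M ^ (m + 1) ⊔ M * M * M ^ (m + 1) := Submodule.sup_mul ..
        _ ≤ P ⊔ M ^ (m + 3) := by
          refine sup_le ?_ ?_
          · refine (mul_le_mul' le_rfl ih).trans ?_
            rw [Submodule.mul_sup]
            refine sup_le ?_ ?_
            · refine le_sup_of_le_left (Submodule.mul_le.mpr fun x hx y hy => ?_)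
              obtain ⟨t, rfl⟩ := Submodule.mem_span_singleton.mp hx
              exact Subalgebra.mul_mem _ (Subalgebra.smul_mem _ haP t) hy
            · refine le_sup_of_le_right ?_
              rw [pow_succ' M (m + 2)]
              exact mul_le_mul' ((Submodule.span_singleton_le_iff_mem _ _).mpr haM) le_rfl
          · refine le_sup_of_le_right (le_of_eq ?_)
            rw [← pow_two, ← pow_add]
            congr 1
            omega
  have hMP : M ≤ P := by
    have h : ∀ m : ℕ, M ≤ P ⊔ M ^ (m + 1) := by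
      intro m
      induction m with
      | zero => rw [pow_one]; exact le_sup_right
      | succ m ih => exact ih.trans (sup_le le_sup_left (hstep m))
    have hpow : ∀ m : ℕ, M ^ (m + 1) ≤ (J ^ (m + 1) : Ideal A).restrictScalars k := by
      intro m
      induction m with
      | zero => rw [pow_one, Submodule.pow_one]; exact inf_le_right
      | succ m ih =>
        rw [pow_succ M]
        exact Submodule.mul_le.mpr fun x hx y hy => by
          rw [Submodule.restrictScalars_mem, Submodule.pow_succ]
          exact Submodule.mul_mem_mul (ih hx) hy.2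
    have hbot : M ^ (N + 1) = ⊥ := by
      rw [eq_bot_iff]
      refine (hpow N).trans fun x hx => ?_
      rw [Submodule.restrictScalars_mem, Submodule.pow_succ, hN, zero_mul] at hx
      exact hx
    have := h N
    rwa [hbot, sup_bot_eq] at this
  have hcommP : ∀ x ∈ P, ∀ y ∈ P, x * y = y * x := fun x hx y hy =>
    congrArg Subtype.val (mul_comm (⟨x, hx⟩ : Algebra.adjoin k {a}) ⟨y, hy⟩)
  have hcomm : ∀ x ∈ L, ∀ y ∈ L, x * y = y * x := by
    intro x hx y hy
    obtain ⟨c, hc⟩ := hscal x hx
    obtain ⟨d, hd⟩ := hscal y hy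
    have h := hcommP _ (hMP hc) _ (hMP hd)
    simp only [sub_mul, mul_sub, smul_mul_assoc, mul_smul_comm, hx.1, hx.2, hy.1, hy.2, hee,
      smul_sub, smul_smul, mul_comm c d] at h
    have e1 : x * y - c • y - (d • x - (d * c) • e) - (y * x - d • x - (c • y - (d * c) • e))
        = x * y - y * x := by abel
    exact sub_eq_zero.mp (e1.symm.trans (sub_eq_zero.mpr h))
  have hL2 : finrank k L ≤ 2 := by
    have h := key ⊥ fun x y z z' hz hz' => by
      rw [Submodule.mem_bot, sub_eq_zero]
      exact Subtype.ext (by rw [hz, hz', hcomm _ x.2 _ y.2])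
    rwa [LinearEquiv.finrank_eq (Submodule.quotEquivOfEqBot (⊥ : Submodule k L) rfl)] at h
  refine ⟨e, finrank k L, hee, hL2, ?_, ?_⟩
  · -- the whole algebra
    let Φ : A →ₗ[k] (Fin n → Fin n → L) := LinearMap.pi fun i => LinearMap.pi fun l =>
      ((LinearMap.mulRight k (w l)).comp (LinearMap.mulLeft k (u i))).codRestrict L fun x =>
        hcorner x i l
    have hbij : Function.Bijective Φ := by
      constructor
      · intro x y h
        have hil : ∀ i l, u i * x * w l = u i * y * w l := fun i l =>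
          congrArg Subtype.val (congrFun (congrFun h i) l)
        have hexp : ∀ z, z = ∑ i, ∑ l, w i * (u i * z * w l) * u l := fun z => by
          conv_lhs => rw [← one_mul z, ← mul_one (1 * z), ← hf.complete]
          simp only [Finset.sum_mul, Finset.mul_sum, ← (huw _).2.2.2.2.2, mul_assoc]
          exact Finset.sum_comm
        rw [hexp x, hexp y]
        exact Finset.sum_congr rfl fun i _ => Finset.sum_congr rfl fun l _ => by rw [hil]
      · intro q
        refine ⟨∑ i, ∑ l, w i * (q i l : A) * u l, funext fun i₀ => funext fun l₀ => Subtype.ext ?_⟩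
        show u i₀ * (∑ i, ∑ l, w i * (q i l : A) * u l) * w l₀ = q i₀ l₀
        have hz : ∀ i l, i ≠ l → u i * w l = 0 := fun i l hil => by
          rw [← (huw i).2.1, ← (huw l).2.2.1, mul_assoc, ← mul_assoc (f i), hf.ortho hil, zero_mul,
            mul_zero]
        simp only [Finset.mul_sum, Finset.sum_mul]
        rw [Finset.sum_eq_single i₀, Finset.sum_eq_single l₀]
        · rw [← mul_assoc (u i₀), ← mul_assoc (u i₀), (huw i₀).2.2.2.2.1, mul_assoc _ (u l₀),
            (huw l₀).2.2.2.2.1, (q i₀ l₀).2.1, (q i₀ l₀).2.2]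
        · intro l _ hl
          rw [← mul_assoc (u i₀), mul_assoc _ (u l), hz l l₀ hl, mul_zero]
        · simp
        · intro i _ hi
          refine Finset.sum_eq_zero fun l _ => ?_
          rw [← mul_assoc (u i₀), ← mul_assoc (u i₀), hz i₀ i (Ne.symm hi)]
          simp
        · simp
    rw [(LinearEquiv.ofBijective Φ hbij).finrank_eq]
    simp [Module.finrank_pi_fintype]
    ring
  · let Φ : LinearMap.range (LinearMap.mulRight k e) →ₗ[k] (Fin n → L) := LinearMap.pi fun i =>
      ((LinearMap.mulLeft k (u i)).comp (LinearMap.range (LinearMap.mulRight k e)).subtype).codRestrict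
        L fun x => by
          obtain ⟨z, hz⟩ := x.2
          have hx : (x : A) = z * e := hz.symm
          refine ⟨?_, ?_⟩ <;> simp only [LinearMap.comp_apply, Submodule.subtype_apply,
            LinearMap.mulLeft_apply, hx]
          · rw [← mul_assoc, (huw i).1]
          · rw [mul_assoc, mul_assoc, hee]
    have hbij : Function.Bijective Φ := by
      constructor
      · intro x y h
        have hi : ∀ i, u i * (x : A) = u i * y := fun i => congrArg Subtype.val (congrFun h i)
        refine Subtype.ext ?_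
        rw [← one_mul (x : A), ← one_mul (y : A), ← hf.complete, Finset.sum_mul, Finset.sum_mul]
        exact Finset.sum_congr rfl fun i _ => by rw [← (huw i).2.2.2.2.2, mul_assoc, mul_assoc, hi]
      · intro q
        refine ⟨⟨(∑ i, w i * (q i : A)) * e, ⟨_, rfl⟩⟩, funext fun i₀ => Subtype.ext ?_⟩
        show u i₀ * ((∑ i, w i * (q i : A)) * e) = q i₀
        rw [Finset.sum_mul, Finset.mul_sum, Finset.sum_eq_single i₀]
        · rw [mul_assoc, (q i₀).2.2, ← mul_assoc, (huw i₀).2.2.2.2.1, (q i₀).2.1]
        · intro i _ hi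
          rw [← mul_assoc, ← mul_assoc, ← (huw i₀).2.1, ← (huw i).2.2.1, mul_assoc (u i₀),
            ← mul_assoc (f i₀), hf.ortho (Ne.symm hi)]
          simp
        · simp
    rw [(LinearEquiv.ofBijective Φ hbij).finrank_eq]
    simp [Module.finrank_pi_fintype]
    ring

/-- Indecomposable symmetric algebras with centre of dimension at most two. -/
theorem exists_idempotent_of_center_le_two [IsAlgClosed k] [FiniteDimensional k A] [Nontrivial A]
    (τ : Dual k A) (hsymm : ∀ a b, τ (a * b) = τ (b * a))
    (hnd : ∀ a, (∀ b, τ (a * b) = 0) → a = 0)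
    (hindec : ∀ z : A, (∀ y, y * z = z * y) → IsIdempotentElem z → z = 0 ∨ z = 1)
    (hdim : finrank k (Subalgebra.center k A) ≤ 2) :
    ∃ (n : ℕ) (f : A) (c : ℕ), IsIdempotentElem f ∧ c ≤ 2 ∧ finrank k A = c * (n * n) ∧
      finrank k (LinearMap.range (LinearMap.mulRight k f)) = c * n := by
  classical
  have hTF : finrank k (traceForms k A) ≤ 2 := (finrank_traceForms_le τ hsymm hnd).trans hdim
  haveI : IsArtinianRing A := IsArtinianRing.of_finite k A
  let J := Ring.jacobson A
  haveI : IsSemisimpleRing (A ⧸ J) := IsSemiprimaryRing.isSemisimpleRing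
  obtain ⟨r, d, hd, ⟨E⟩⟩ := IsSemisimpleRing.exists_algEquiv_pi_matrix_of_isAlgClosed k (A ⧸ J)
  let π : A →ₐ[k] ((i : Fin r) → Matrix (Fin (d i)) (Fin (d i)) k) :=
    E.toAlgHom.comp (Ideal.Quotient.mkₐ k J)
  have hπ : Function.Surjective π := E.surjective.comp Ideal.Quotient.mk_surjective
  have hJ : ∀ x, x ∈ J ↔ π x = 0 := fun x => by
    rw [← Ideal.Quotient.eq_zero_iff_mem]
    exact (map_eq_zero_iff E E.injective).symm
  have hnil : IsNilpotent J := IsSemiprimaryRing.isNilpotent
  -- the traces of the components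
  let T : Fin r → Dual k A := fun i =>
    ((Matrix.traceLinearMap (Fin (d i)) k k).comp (LinearMap.proj i)).comp π.toLinearMap
  have hTapp : ∀ i x, T i x = Matrix.trace (π x i) := fun i x => rfl
  have hmemT : Submodule.span k (Set.range T) ≤ traceForms k A := by
    rw [Submodule.span_le]
    rintro _ ⟨i, rfl⟩ x y
    rw [hTapp, hTapp, map_mul, map_mul, Pi.mul_apply, Pi.mul_apply, Matrix.trace_mul_comm]
  have hT : LinearIndependent k T := by
    refine Fintype.linearIndependent_iff.mpr fun c hc i => ?_
    haveI := hd i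
    obtain ⟨x, hx⟩ := hπ (Pi.single i (Matrix.single 0 0 1))
    have h := LinearMap.congr_fun hc x
    rw [LinearMap.sum_apply, LinearMap.zero_apply] at h
    rw [Finset.sum_eq_single i (fun j _ hj => by
        rw [LinearMap.smul_apply, hTapp, hx, Pi.single_eq_of_ne hj, Matrix.trace_zero, smul_zero])
      (fun h => absurd (Finset.mem_univ _) h), LinearMap.smul_apply, hTapp, hx, Pi.single_eq_same,
      Matrix.trace_single_eq_same, smul_eq_mul, mul_one] at h
    exact h
  have hspanr : finrank k (Submodule.span k (Set.range T)) = r :=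
    (finrank_span_eq_card hT).trans (Fintype.card_fin r)
  have hr : r ≤ 2 := hspanr ▸ (Submodule.finrank_mono hmemT).trans hTF
  interval_cases r
  · exfalso
    obtain ⟨N, hN⟩ := hnil
    exact not_isNilpotent_one (isNilpotent_of_mem ((hJ 1).mpr (Subsingleton.elim _ _)) hN)
  · haveI := hd 0
    let π₁ : A →ₐ[k] Matrix (Fin (d 0)) (Fin (d 0)) k :=
      AlgHom.ofLinearMap ((LinearMap.proj 0).comp π.toLinearMap) (congrFun (map_one π) 0)
        fun x y => congrFun (map_mul π x y) 0
    have hπ₁ : ∀ x, π₁ x = π x 0 := fun _ => rfl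
    obtain ⟨f, c, hf⟩ := exists_idempotent_of_matrix hTF π₁
      (fun y => by
        obtain ⟨x, hx⟩ := hπ (Pi.single 0 y)
        exact ⟨x, by rw [hπ₁, hx, Pi.single_eq_same]⟩)
      J (fun x => (hJ x).trans ⟨fun h => by rw [hπ₁, h]; rfl, fun h => funext fun i => by
        obtain rfl : i = 0 := Subsingleton.elim i 0
        rw [← hπ₁]; exact h⟩) hnil
    exact ⟨_, f, c, hf⟩
  · exfalso
    have hspan : Submodule.span k (Set.range T) = traceForms k A :=
      Submodule.eq_of_le_of_finrank_le hmemT (hTF.trans_eq hspanr.symm)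
    have hτ : ∀ x, π x = 0 → τ x = 0 := by
      intro x hx
      have hmem : τ ∈ Submodule.span k (Set.range T) := hspan ▸ hsymm
      obtain ⟨c, hc⟩ := (Submodule.mem_span_range_iff_exists_fun k).mp hmem
      rw [← hc, LinearMap.sum_apply]
      exact Finset.sum_eq_zero fun i _ => by
        rw [LinearMap.smul_apply, hTapp, hx, Pi.zero_apply, Matrix.trace_zero, smul_zero]
    have hinj : Function.Injective π := (injective_iff_map_eq_zero π).mpr fun x hx =>
      hnd x fun b => hτ _ (by rw [map_mul, hx, zero_mul])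
    obtain ⟨z, hz⟩ := hπ (Pi.single 0 1)
    haveI := hd 0
    haveI := hd 1
    rcases hindec z (fun y => hinj (by
        rw [map_mul, map_mul, hz]
        funext i
        rcases eq_or_ne i 0 with rfl | hi
        · simp
        · simp [Pi.single_eq_of_ne hi]))
      (hinj (by
        rw [map_mul, hz]
        funext i
        rcases eq_or_ne i 0 with rfl | hi
        · simp
        · simp [Pi.single_eq_of_ne hi])) with h | h
    · rw [h, map_zero] at hz
      have := congrFun hz 0
      simp at this
    · rw [h, map_one] at hz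
      have := congrFun hz 1
      simp at this

end Cfsg.Agent.BlockTwo
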