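/-
Right ideals of idempotents in a group algebra in characteristic `p`.

* `pow_dvd_finrank_mulRight` : `|G|_p` divides `dim k[G] f` for an idempotent `f`
-/
import Cfsg.Agent.Lib.Blocks.Nilpotent

set_option autoImplicit false
set_option linter.style.haveILetI false

namespace Cfsg.Agent.BlockTwo

open Module

variable {k : Type*} [Field k] {G : Type*} [Group G] [Finite G] {p : ℕ}

local notation "A[" k ", " G "]" => MonoidAlgebra k G

/-- A functional fixed by left multiplication by `P` factors through the norm. -/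
theorem exists_eq_comp_norm (P : Subgroup G) [Fintype P] (φ : Dual k A[k, G])
    (hφ : ∀ (u : P) x, φ (MonoidAlgebra.single (u : G) 1 * x) = φ x) :
    ∃ h : Dual k A[k, G], ∀ x, φ x = h ((∑ u : P, MonoidAlgebra.single (u : G) (1 : k)) * x) := by
  classical
  have := Fintype.ofFinite G
  let rep : G → G := fun g => (Quotient.out (QuotientGroup.mk (g⁻¹) : G ⧸ P))⁻¹
  have hrep : ∀ g, ∃ v : P, (v : G) * g = rep g := fun g => by
    obtain ⟨v, hv⟩ := QuotientGroup.mk_out_eq_mul P g⁻¹
    exact ⟨v⁻¹, by simp [rep, hv]⟩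
  have hrepu : ∀ (u : P) g, rep ((u : G) * g) = rep g := fun u g => by
    simp only [rep]
    congr 2
    rw [mul_inv_rev]
    exact QuotientGroup.mk_mul_of_mem g⁻¹ (P.inv_mem u.2)
  let c : G → k := fun g => if g = rep g then φ (MonoidAlgebra.single g 1) else 0
  refine ⟨(MonoidAlgebra.basis G k).constr k c, fun x => ?_⟩
  suffices φ = ((MonoidAlgebra.basis G k).constr k c).comp
      (LinearMap.mulLeft k (∑ u : P, MonoidAlgebra.single (u : G) (1 : k))) from
    LinearMap.congr_fun this x
  refine (MonoidAlgebra.basis G k).ext fun g => ?_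
  rw [LinearMap.comp_apply, LinearMap.mulLeft_apply, MonoidAlgebra.basis_apply, Finset.sum_mul, map_sum]
  simp only [MonoidAlgebra.single_mul_single, one_mul]
  obtain ⟨v, hv⟩ := hrep g
  rw [Finset.sum_eq_single v]
  · rw [← MonoidAlgebra.basis_apply k ((v : G) * g), Module.Basis.constr_basis]
    simp only [c]
    rw [if_pos (by rw [hrepu, hv]), ← hφ v (MonoidAlgebra.single g 1),
      MonoidAlgebra.single_mul_single, one_mul]
  · intro u _ hu
    rw [← MonoidAlgebra.basis_apply k ((u : G) * g), Module.Basis.constr_basis]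
    simp only [c]
    rw [if_neg]
    intro h
    rw [hrepu, ← hv] at h
    exact hu (Subtype.ext (mul_right_cancel h))
  · simp

variable [Fact p.Prime] [CharP k p]

/-- `p`-group invariant proper subspaces have invariant functionals. -/
theorem exists_fixed_functional {P : Subgroup G} (hP : IsPGroup p P)
    (W : Submodule k A[k, G]) (hW : ∀ (u : P), ∀ x ∈ W, MonoidAlgebra.single (u : G) 1 * x ∈ W)
    (hne : W ≠ ⊤) :
    ∃ φ : Dual k A[k, G], φ ≠ 0 ∧ (∀ x ∈ W, φ x = 0) ∧
      ∀ (u : P) x, φ (MonoidAlgebra.single (u : G) 1 * x) = φ x := by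
  letI : DistribMulAction P (Dual k A[k, G]) :=
    { smul := fun u φ => φ.comp (LinearMap.mulLeft k (MonoidAlgebra.single ((u : G)⁻¹) (1 : k)))
      one_smul := fun φ => LinearMap.ext fun x => by
        show φ (MonoidAlgebra.single (((1 : P) : G)⁻¹) 1 * x) = φ x
        rw [Subgroup.coe_one, inv_one, ← MonoidAlgebra.one_def, one_mul]
      mul_smul := fun u v φ => LinearMap.ext fun x => by
        show φ (MonoidAlgebra.single (((u * v : P) : G)⁻¹) 1 * x) =
          φ (MonoidAlgebra.single ((v : G)⁻¹) 1 * (MonoidAlgebra.single ((u : G)⁻¹) 1 * x))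
        rw [← mul_assoc, MonoidAlgebra.single_mul_single, one_mul, Subgroup.coe_mul, mul_inv_rev]
      smul_zero := fun _ => rfl
      smul_add := fun _ _ _ => rfl }
  letI : Module (ZMod p) (Dual k A[k, G]) := AddCommGroup.zmodModule fun φ => by
    rw [← Nat.cast_smul_eq_nsmul k, CharP.cast_eq_zero, zero_smul]
  obtain ⟨φ, hφ, hφ0, hfix⟩ := Blocks.exists_fixed_ne_zero (p := p) hP W.dualAnnihilator.toAddSubgroup
    (fun u φ hφ => by
      refine (Submodule.mem_dualAnnihilator _).mpr fun x hx => ?_
      exact (Submodule.mem_dualAnnihilator φ).mp hφ _ (by simpa using hW u⁻¹ x hx))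
    (fun h => hne (by
      have : W.dualAnnihilator = ⊥ := Submodule.toAddSubgroup_injective (h.trans Submodule.bot_toAddSubgroup.symm)
      exact Submodule.dualAnnihilator_eq_bot_iff.mp this))
  refine ⟨φ, hφ0, (Submodule.mem_dualAnnihilator φ).mp hφ, fun u x => ?_⟩
  have h := LinearMap.congr_fun (hfix u⁻¹) x
  change φ (MonoidAlgebra.single (((u⁻¹ : P) : G)⁻¹) 1 * x) = φ x at h
  rwa [Subgroup.coe_inv, inv_inv] at h

theorem finrank_monoidAlgebra : finrank k A[k, G] = Nat.card G := by
  have := Fintype.ofFinite G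
  rw [Module.finrank_eq_card_basis (MonoidAlgebra.basis G k), Nat.card_eq_fintype_card]

/-- The `p`-part of the order divides the dimension of a projective right ideal. -/
theorem pow_dvd_finrank_mulRight {f : A[k, G]} (hf : IsIdempotentElem f) :
    p ^ (Nat.card G).factorization p ∣ finrank k (LinearMap.range (LinearMap.mulRight k f)) := by
  classical
  have := Fintype.ofFinite G
  haveI : Module.Finite k A[k, G] := Module.Finite.of_basis (MonoidAlgebra.basis G k)
  obtain ⟨P⟩ : Nonempty (Sylow p G) := inferInstance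
  have hcard : Nat.card (P : Subgroup G) = p ^ (Nat.card G).factorization p := P.card_eq_multiplicity
  let T := LinearMap.mulLeft k (∑ u : (P : Subgroup G), MonoidAlgebra.single (u : G) (1 : k))
  set V₁ := LinearMap.range (LinearMap.mulRight k f) with hV₁
  set V₂ := LinearMap.range (LinearMap.mulRight k (1 - f)) with hV₂
  have hleft : ∀ g : A[k, G], ∀ a x, x ∈ LinearMap.range (LinearMap.mulRight k g) →
      a * x ∈ LinearMap.range (LinearMap.mulRight k g) := by
    rintro g a _ ⟨y, rfl⟩
    exact ⟨a * y, by simp [mul_assoc]⟩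
  have hsup : ∀ x : A[k, G], x * f ∈ V₁ ∧ x * (1 - f) ∈ V₂ := fun x => ⟨⟨x, rfl⟩, ⟨x, rfl⟩⟩
  have hdisj : ∀ x, x ∈ V₁ → x ∈ V₂ → x = 0 := by
    rintro _ ⟨y, rfl⟩ ⟨z, hz⟩
    have h1 : z * (1 - f) * f = y * f * f := congrArg (· * f) hz
    rw [mul_assoc, sub_mul, one_mul, hf.eq, sub_self, mul_zero, mul_assoc, hf.eq] at h1
    exact h1.symm
  -- one summand
  have hone : ∀ V V' : Submodule k A[k, G], (∀ a x, x ∈ V → a * x ∈ V) →
      (∀ a x, x ∈ V' → a * x ∈ V') → V ⊔ V' = ⊤ → Disjoint V V' →
      finrank k V ≤ Nat.card (P : Subgroup G) * finrank k (V.map T) := by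
    intro V V' hV hV' htop hd
    have hmem : ∀ j, (Module.finBasis k (V.map T) j : A[k, G]) ∈ V.map T := fun j =>
      (Module.finBasis k (V.map T) j).2
    choose x hx hTx using fun j => Submodule.mem_map.mp (hmem j)
    let S : Set A[k, G] := Set.range fun q : ↥(P : Subgroup G) × Fin (finrank k (V.map T)) =>
      MonoidAlgebra.single (q.1 : G) (1 : k) * x q.2
    have hS : Submodule.span k S ≤ V := Submodule.span_le.mpr (by
      rintro _ ⟨q, rfl⟩; exact hV _ _ (hx q.2))
    suffices V ≤ Submodule.span k S by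
      refine (Submodule.finrank_mono this).trans ((finrank_range_le_card _).trans ?_)
      rw [Fintype.card_prod, Fintype.card_fin, Nat.card_eq_fintype_card]
    have hWtop : Submodule.span k S ⊔ V' = ⊤ := by
      by_contra hne
      have hWP : ∀ (u : (P : Subgroup G)), ∀ z ∈ Submodule.span k S ⊔ V',
          MonoidAlgebra.single (u : G) 1 * z ∈ Submodule.span k S ⊔ V' := by
        intro u z hz
        obtain ⟨s, hs, w, hw, rfl⟩ := Submodule.mem_sup.mp hz
        rw [mul_add]
        refine Submodule.add_mem _ (Submodule.mem_sup_left ?_) (Submodule.mem_sup_right (hV' _ _ hw))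
        clear hz
        induction hs using Submodule.span_induction with
        | mem z hz =>
          obtain ⟨q, rfl⟩ := hz
          refine Submodule.subset_span ⟨(u * q.1, q.2), ?_⟩
          simp [← mul_assoc, MonoidAlgebra.single_mul_single]
        | zero => rw [mul_zero]; exact Submodule.zero_mem _
        | add a b _ _ ha hb => rw [mul_add]; exact Submodule.add_mem _ ha hb
        | smul c a _ ha => rw [mul_smul_comm]; exact Submodule.smul_mem _ c ha
      obtain ⟨φ, hφ0, hφW, hφu⟩ := exists_fixed_functional P.isPGroup' _ hWP hne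
      obtain ⟨h, hh⟩ := exists_eq_comp_norm (P : Subgroup G) φ hφu
      refine hφ0 (LinearMap.ext fun z => ?_)
      obtain ⟨a, ha, a', ha', rfl⟩ := Submodule.mem_sup.mp (htop ▸ Submodule.mem_top (x := z))
      rw [map_add, hφW a' (Submodule.mem_sup_right ha'), add_zero, LinearMap.zero_apply]
      let q : V.map T := ⟨T a, Submodule.mem_map_of_mem ha⟩
      have hq : T a = T (∑ j, (Module.finBasis k (V.map T)).repr q j • x j) := by
        have h1 := congrArg (Subtype.val) ((Module.finBasis k (V.map T)).sum_repr q)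
        rw [Submodule.coe_sum] at h1
        simp only [Submodule.coe_smul, map_sum, map_smul, hTx] at h1 ⊢
        exact h1.symm
      rw [hh a, show (∑ u : (P : Subgroup G), MonoidAlgebra.single (u : G) (1 : k)) * a = T a from rfl,
        hq]
      show h ((∑ u : (P : Subgroup G), MonoidAlgebra.single (u : G) (1 : k)) * _) = 0
      rw [← hh]
      refine hφW _ (Submodule.mem_sup_left (Submodule.sum_mem _ fun j _ => Submodule.smul_mem _ _
        (Submodule.subset_span ⟨(1, j), ?_⟩)))
      simp [← MonoidAlgebra.one_def]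
    intro a ha
    obtain ⟨s, hs, w, hw, rfl⟩ := Submodule.mem_sup.mp (hWtop ▸ Submodule.mem_top (x := a))
    have : w ∈ V := by simpa using V.sub_mem ha (hS hs)
    rw [Submodule.disjoint_def.mp hd w this hw, add_zero]
    exact hs
  have htop : V₁ ⊔ V₂ = ⊤ := eq_top_iff.mpr fun x _ => by
    rw [show x = x * f + x * (1 - f) by rw [← mul_add, add_sub_cancel, mul_one]]
    exact Submodule.add_mem_sup (hsup x).1 (hsup x).2
  have hd : Disjoint V₁ V₂ := Submodule.disjoint_def.mpr hdisj
  have hT : finrank k (LinearMap.range T) ≤ (P : Subgroup G).index := by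
    let Φ : A[k, G] →ₗ[k] ((G ⧸ (P : Subgroup G)) → k) := LinearMap.pi fun q =>
      ((MonoidAlgebra.basis G k).coord (Quotient.out q)⁻¹)
    have hinj : Function.Injective (Φ.comp (LinearMap.range T).subtype) := by
      rw [← LinearMap.ker_eq_bot, LinearMap.ker_eq_bot']
      rintro ⟨z, y, rfl⟩ hz
      have hfixed : ∀ u : (P : Subgroup G), MonoidAlgebra.single (u : G) 1 * T y = T y := by
        intro u
        simp only [T, LinearMap.mulLeft_apply, ← mul_assoc, Finset.mul_sum,
          MonoidAlgebra.single_mul_single, mul_one]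
        congr 1
        exact Fintype.sum_equiv (Equiv.mulLeft u) _ _ fun v => rfl
      refine Subtype.ext (MonoidAlgebra.ext (Finsupp.ext fun g => ?_))
      show (T y).coeff g = (0 : A[k, G]).coeff g
      obtain ⟨v, hv⟩ := QuotientGroup.mk_out_eq_mul (P : Subgroup G) g⁻¹
      have h0 : (T y).coeff (Quotient.out (QuotientGroup.mk g⁻¹ : G ⧸ (P : Subgroup G)))⁻¹ = 0 :=
        congrFun hz (QuotientGroup.mk g⁻¹)
      rw [hv, mul_inv_rev, inv_inv] at h0
      rw [MonoidAlgebra.coeff_zero, Finsupp.zero_apply, ← h0]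
      conv_rhs => rw [← hfixed v⁻¹, Subgroup.coe_inv, MonoidAlgebra.coeff_single_mul_apply]
      simp
    refine (LinearMap.finrank_le_finrank_of_injective hinj).trans ?_
    rw [Module.finrank_fintype_fun_eq_card, ← Nat.card_eq_fintype_card, Subgroup.index]
  have hsum : finrank k (V₁.map T) + finrank k (V₂.map T) ≤ (P : Subgroup G).index := by
    refine le_trans ?_ hT
    rw [← Submodule.finrank_sup_add_finrank_inf_eq]
    have hbot : V₁.map T ⊓ V₂.map T = ⊥ := by
      rw [eq_bot_iff]
      intro z hz
      obtain ⟨⟨a, ha, rfl⟩, ⟨b, hb, hab⟩⟩ := Submodule.mem_inf.mp hz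
      exact hdisj _ (hleft f _ _ ha) (hab ▸ hleft _ _ _ hb)
    rw [hbot, finrank_bot, add_zero]
    exact Submodule.finrank_mono (sup_le LinearMap.map_le_range LinearMap.map_le_range)
  have h1 := hone V₁ V₂ (fun a x => hleft f a x) (fun a x => hleft _ a x) htop hd
  have h2 := hone V₂ V₁ (fun a x => hleft _ a x) (fun a x => hleft f a x) (by rw [sup_comm, htop])
    hd.symm
  have h3 : finrank k V₁ + finrank k V₂ = Nat.card G := by
    rw [Submodule.finrank_add_eq_of_isCompl ⟨hd, codisjoint_iff.mpr htop⟩, finrank_monoidAlgebra]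
  have h4 := (P : Subgroup G).card_mul_index
  have h5 : Nat.card (P : Subgroup G) * finrank k (V₁.map T) +
      Nat.card (P : Subgroup G) * finrank k (V₂.map T) ≤ Nat.card G := by
    rw [← mul_add, ← h4]
    exact Nat.mul_le_mul_left _ hsum
  refine ⟨finrank k (V₁.map T), ?_⟩
  rw [← hcard]
  omega

end Cfsg.Agent.BlockTwo
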