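/-
Blocks with two irreducible characters.

* `finrank_range_blk` : the dimension of a block algebra modulo `M` is the sum of the squared degrees
* `card_defectGroup_eq_two` : `k(B) = 2` forces a defect group of order two
* `card_block_eq_two` : a defect group of order two forces `k(B) = 2`
-/
import Cfsg.Agent.Lib.BlockTwo.Algebra
import Cfsg.Agent.Lib.BlockTwo.Projective
import Cfsg.Agent.Lib.ModRep.Basic
import Cfsg.Agent.Lib.BrauerPairs.BlockIdem
import Cfsg.Agent.Lib.BlockDefect.RegInner
import Cfsg.Agent.Lib.Blocks.LocalBlocks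
import Cfsg.Agent.Lib.SecondMain.DefectTwoBlock
import Cfsg.Agent.Lib.BlocksNormal.Basic

set_option autoImplicit false
set_option linter.style.haveILetI false
set_option linter.unusedSectionVars false

namespace Cfsg.Agent.BlockTwo

open Cfsg Cfsg.Agent.Blocks Cfsg.Agent.BrauerPairs Module

variable {G : Type*} [Group G] [Finite G] {p : ℕ} {M : Ideal AlgInt}

/-- Reduction as a ring homomorphism on the local ring. -/
noncomputable def resHom (hM : IsPModular p M) : locRing hM →+* Res M where
  toFun x := res M (x : ℂ)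
  map_one' := res_one hM
  map_mul' x y := res_mul hM x.2 y.2
  map_zero' := res_zero hM
  map_add' x y := res_add hM x.2 y.2

/-- Lifts of independent vectors are independent. -/
theorem linearIndependent_of_red (hM : IsPModular p M) {r : ℕ} (v : Fin r → G → ℂ)
    (hv : ∀ i g, MemLocalRing M (v i g))
    (hind : letI := ModRep.resField hM
      LinearIndependent (Res M) fun i => red M (v i)) :
    LinearIndependent ℂ v := by
  classical
  letI := ModRep.resField hM
  have := Fintype.ofFinite G
  let w : (Fin r → Res M) →ₗ[Res M] (G → Res M) :=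
    Fintype.linearCombination (Res M) fun i g => res M (v i g)
  have hw : LinearMap.ker w = ⊥ := by
    rw [LinearMap.ker_eq_bot']
    intro c hc
    refine funext (Fintype.linearIndependent_iff.mp hind c (MonoidAlgebra.ext (Finsupp.ext fun g => ?_)))
    have h := congrFun hc g
    rw [MonoidAlgebra.coeff_sum, Finsupp.finsetSum_apply, MonoidAlgebra.coeff_zero, Finsupp.zero_apply]
    simpa [w, Fintype.linearCombination_apply, coeff_red] using h
  obtain ⟨lm, hlm⟩ := w.exists_leftInverse_of_injective hw
  let X : Matrix (Fin r) (Fin r) (locRing hM) := Matrix.of fun j i =>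
    ⟨∑ g, unres (lm (Pi.single g 1) j) * v i g,
      memR_sum hM _ fun g _ => memR_mul hM (memR_unres hM _) (hv i g)⟩
  have hX : (resHom hM).mapMatrix X = 1 := by
    ext j i
    show res M (∑ g, unres (lm (Pi.single g 1) j) * v i g) = _
    rw [res_sum hM _ fun g _ => memR_mul hM (memR_unres hM _) (hv i g)]
    simp only [res_mul hM (memR_unres hM _) (hv i _), res_unres hM]
    have h1 : lm (fun g => res M (v i g)) = Pi.single i 1 := by
      have := LinearMap.congr_fun hlm (Pi.single i 1)
      simpa [w, Fintype.linearCombination_apply, Pi.single_apply, ite_smul] using this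
    have h2 : (fun g => res M (v i g)) = ∑ g, res M (v i g) • (Pi.single g 1 : G → Res M) := by
      funext g'
      simp [Finset.sum_apply, Pi.single_apply]
    have h3 := congrFun h1 j
    rw [h2, map_sum, Finset.sum_apply] at h3
    simp only [map_smul, Pi.smul_apply, smul_eq_mul] at h3
    rw [Matrix.one_apply, ← Pi.single_apply, ← h3]
    exact Finset.sum_congr rfl fun g _ => mul_comm _ _
  have hdet : (X.det : ℂ) ≠ 0 := by
    intro h0
    have h1 := congrArg Matrix.det hX
    rw [← RingHom.map_det, Matrix.det_one] at h1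
    have : X.det = 0 := Subtype.ext h0
    rw [this, map_zero] at h1
    exact zero_ne_one h1
  rw [Fintype.linearIndependent_iff]
  intro c hc
  let XC : Matrix (Fin r) (Fin r) ℂ := (locRing hM).subtype.mapMatrix X
  have hXdet : XC.det ≠ 0 := by
    rw [← RingHom.map_det]
    exact hdet
  have hmul : XC.mulVec c = 0 := by
    funext j
    show ∑ i, (∑ g, unres (lm (Pi.single g 1) j) * v i g) * c i = 0
    simp only [Finset.sum_mul]
    rw [Finset.sum_comm]
    refine Finset.sum_eq_zero fun g _ => ?_
    have h := congrFun hc g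
    simp only [Finset.sum_apply, Pi.smul_apply, smul_eq_mul, Pi.zero_apply] at h
    calc ∑ i, unres (lm (Pi.single g 1) j) * v i g * c i
        = unres (lm (Pi.single g 1) j) * ∑ i, c i * v i g := by
          rw [Finset.mul_sum]; exact Finset.sum_congr rfl fun i _ => by ring
      _ = 0 := by rw [h, mul_zero]
  exact congrFun (Matrix.eq_zero_of_mulVec_eq_zero hXdet hmul)

/-- The fixed part `U` of a space of lifts bounds its reduction. -/
theorem finrank_le_of_lifts (hM : IsPModular p M) :
    letI := ModRep.resField hM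
    ∀ (U : Submodule (Res M) (MonoidAlgebra (Res M) G)) (V : Submodule ℂ (G → ℂ)),
      (∀ a ∈ U, ∃ v ∈ V, (∀ g, MemLocalRing M (v g)) ∧ red M v = a) →
      finrank (Res M) U ≤ finrank ℂ V := by
  letI := ModRep.resField hM
  intro U V h
  haveI : Module.Finite (Res M) (MonoidAlgebra (Res M) G) :=
    Module.Finite.of_basis (MonoidAlgebra.basis G (Res M))
  let bU := Module.finBasis (Res M) U
  choose v hvV hvR hv using fun i => h _ (bU i).2
  have hind : LinearIndependent ℂ v := linearIndependent_of_red hM v hvR (by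
    have : (fun i => red M (v i)) = fun i => ((bU i : U) : MonoidAlgebra (Res M) G) := funext hv
    rw [this]
    exact bU.linearIndependent.map' U.subtype U.ker_subtype)
  have h1 := LinearMap.finrank_le_finrank_of_injective
    (f := (Fintype.linearCombination ℂ v).codRestrict V fun c => by
      rw [Fintype.linearCombination_apply]
      exact Submodule.sum_mem _ fun i _ => Submodule.smul_mem _ _ (hvV i))
    (fun c c' hcc => by
      have := congrArg Subtype.val hcc
      simp only [LinearMap.codRestrict_apply, Fintype.linearCombination_apply] at this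
      funext i
      have h0 := Fintype.linearIndependent_iff.mp hind (c - c') (by
        simp only [Pi.sub_apply, sub_smul, Finset.sum_sub_distrib, this, sub_self]) i
      exact sub_eq_zero.mp h0)
  rwa [Module.finrank_fintype_fun_eq_card, Fintype.card_fin] at h1

/-- The sum of the squared degrees. -/
noncomputable def degSum (B : Set (IrrCharacter G)) : ℕ :=
  ∑ χ ∈ (Set.toFinite B).toFinset, charDegree (χ : G → ℂ) ^ 2

theorem finrank_range_le (hM : IsPModular p M) {B : Set (IrrCharacter G)} (hB : IsPBlock M B) :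
    letI := ModRep.resField hM
    finrank (Res M) (LinearMap.range (LinearMap.mulRight (Res M) (blk M B))) ≤ degSum B := by
  classical
  letI := ModRep.resField hM
  have := Fintype.ofFinite G
  have := Fintype.ofFinite (IrrCharacter G)
  set f := blockCoeff B with hf
  let K : Matrix G G ℂ := Matrix.of fun g x => f (x⁻¹ * g)
  have hKapp : ∀ z g, K.mulVecLin z g = conv z f g := fun z g => by
    rw [Matrix.mulVecLin_apply, conv_eq_sum]
    show ∑ x, f (x⁻¹ * g) * z x = _
    exact Finset.sum_congr rfl fun x _ => mul_comm _ _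
  have hff : ∀ g, conv f f g = f g := fun g => by
    rw [hf, blockCoeff_eq_ofOmega, ← ofOmega_mul, blockInd_mul_self]
  have hKK : K * K = K := by
    ext g x
    show ∑ y, f (y⁻¹ * g) * f (x⁻¹ * y) = f (x⁻¹ * g)
    rw [← hff, conv_eq_sum]
    refine Fintype.sum_equiv (Equiv.mulLeft x⁻¹) _ _ fun y => ?_
    rw [Equiv.coe_mulLeft, mul_comm, mul_inv_rev, inv_inv]
    congr 2
    group
  have hV : finrank ℂ (LinearMap.range K.mulVecLin) = degSum B := by
    have hproj : LinearMap.IsProj (LinearMap.range K.mulVecLin) K.mulVecLin :=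
      ⟨fun x => ⟨x, rfl⟩, fun x hx => by
        obtain ⟨y, rfl⟩ := hx
        rw [← LinearMap.comp_apply, ← Matrix.mulVecLin_mul, hKK]⟩
    have h1 := hproj.trace
    rw [← Matrix.toLin'_apply', Matrix.trace_toLin'_eq] at h1
    have h2 : Matrix.trace K = (degSum B : ℂ) := by
      rw [Matrix.trace]
      simp only [Matrix.diag_apply, K, Matrix.of_apply, inv_mul_cancel, Finset.sum_const,
        Finset.card_univ, nsmul_eq_mul, hf, blockCoeff, ← Nat.card_eq_fintype_card]
      rw [← mul_assoc, mul_inv_cancel₀ card_ne_zero_C, one_mul,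
        finsum_mem_eq_finite_toFinset_sum _ (Set.toFinite B), degSum, Nat.cast_sum]
      refine Finset.sum_congr rfl fun χ _ => ?_
      rw [Char.IsCharacter.conj_apply_one (Char.IsIrrCharacter.isCharacter χ.2), Nat.cast_pow,
        charDegree_cast, sq]
    rw [h2, Matrix.toLin'_apply'] at h1
    exact_mod_cast h1.symm
  rw [← hV]
  refine finrank_le_of_lifts hM _ _ fun a ha => ?_
  obtain ⟨y, rfl⟩ := ha
  have hR := memR_lift hM y
  have hfR : ∀ g, MemLocalRing M (f g) := memR_blockCoeff hM hB
  refine ⟨K.mulVecLin (lift y), ⟨_, rfl⟩, fun g => ?_, ?_⟩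
  · rw [hKapp, conv_eq_sum]
    exact memR_sum hM _ fun x _ => memR_mul hM (hR x) (hfR _)
  · rw [show K.mulVecLin (lift y) = conv (lift y) f from funext (hKapp _), red_conv hM hR hfR,
      red_lift hM, LinearMap.mulRight_apply]
    rfl

theorem finrank_range_blk (hM : IsPModular p M) {B : Set (IrrCharacter G)} (hB : IsPBlock M B) :
    letI := ModRep.resField hM
    finrank (Res M) (LinearMap.range (LinearMap.mulRight (Res M) (blk M B))) = degSum B := by
  classical
  letI := ModRep.resField hM
  have := Fintype.ofFinite G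
  have := Fintype.ofFinite (IrrCharacter G)
  haveI : Module.Finite (Res M) (MonoidAlgebra (Res M) G) :=
    Module.Finite.of_basis (MonoidAlgebra.basis G (Res M))
  set s := Finset.univ.image fun χ : IrrCharacter G => blockOf M (χ : G → ℂ) with hs
  have hblock : ∀ B' ∈ s, IsPBlock M B' := fun B' hB' => by
    obtain ⟨χ, -, rfl⟩ := Finset.mem_image.mp hB'
    exact ⟨χ, rfl⟩
  let U : Set (IrrCharacter G) → Submodule (Res M) (MonoidAlgebra (Res M) G) := fun B' =>
    LinearMap.range (LinearMap.mulRight (Res M) (blk M B'))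
  have hlow : Nat.card G ≤ ∑ B' ∈ s, finrank (Res M) (U B') := by
    let Φ : ((B' : s) → U B') →ₗ[Res M] MonoidAlgebra (Res M) G :=
      ∑ B' : s, (U B').subtype.comp (LinearMap.proj B')
    have hΦ : Function.Surjective Φ := fun a => ⟨fun B' => ⟨a * blk M B', a, rfl⟩, by
      simp only [Φ, LinearMap.sum_apply, LinearMap.comp_apply, LinearMap.proj_apply,
        Submodule.subtype_apply]
      rw [← Finset.mul_sum, Finset.sum_coe_sort s (fun B' => blk M B'), sum_blk hM, mul_one]⟩
    have h := LinearMap.finrank_range_le Φ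
    rw [LinearMap.range_eq_top.mpr hΦ, finrank_top, finrank_monoidAlgebra,
      Module.finrank_pi_fintype] at h
    rwa [Finset.sum_coe_sort s (fun B' => finrank (Res M) (U B'))] at h
  have htot : ∑ B' ∈ s, degSum B' = Nat.card G := by
    have h : ∑ χ : IrrCharacter G, charDegree (χ : G → ℂ) ^ 2 = Nat.card G := by
      apply Nat.cast_injective (R := ℂ)
      rw [Nat.cast_sum, ← Char.sum_sq_degrees]
      exact Finset.sum_congr rfl fun χ _ => by rw [Nat.cast_pow, charDegree_cast]
    rw [← h, ← Finset.sum_fiberwise_of_maps_to (s := Finset.univ) (t := s)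
      (g := fun χ : IrrCharacter G => blockOf M (χ : G → ℂ)) (fun χ _ => Finset.mem_image_of_mem _ (Finset.mem_univ χ))]
    refine Finset.sum_congr rfl fun B' hB' => Finset.sum_congr ?_ fun _ _ => rfl
    ext χ
    rw [Set.Finite.mem_toFinset, Finset.mem_filter]
    exact ⟨fun h => ⟨Finset.mem_univ _, (isPBlock_eq_blockOf hM (hblock B' hB') h).symm⟩,
      fun h => h.2 ▸ mem_blockOf_self hM χ⟩
  have hmem : B ∈ s := by
    obtain ⟨χ, rfl⟩ := hB
    exact Finset.mem_image_of_mem _ (Finset.mem_univ χ)
  exact (Finset.sum_eq_sum_iff_of_le fun B' hB' => finrank_range_le hM (hblock B' hB')).mp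
    (le_antisymm (Finset.sum_le_sum fun B' hB' => finrank_range_le hM (hblock B' hB')) (htot.le.trans hlow))
    B hmem

theorem finrank_fixed_le (hM : IsPModular p M) {B : Set (IrrCharacter G)} (hB : IsPBlock M B) :
    letI := ModRep.resField hM
    ∀ U : Submodule (Res M) (MonoidAlgebra (Res M) G), (∀ z ∈ U, Fixed ⊤ z ∧ z * blk M B = z) →
      finrank (Res M) U ≤ Nat.card B := by
  classical
  letI := ModRep.resField hM
  intro U hU
  have := Fintype.ofFinite G
  have := Fintype.ofFinite (IrrCharacter G)
  let Λ : (B → ℂ) →ₗ[ℂ] (G → ℂ) :=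
    { toFun := fun c => ofOmega fun χ => if h : χ ∈ B then c ⟨χ, h⟩ else 0
      map_add' := fun c c' => by
        rw [← ofOmega_add]; congr 1; funext χ; by_cases h : χ ∈ B <;> simp [h]
      map_smul' := fun a c => by
        rw [RingHom.id_apply, ← ofOmega_smul]; congr 1; funext χ; by_cases h : χ ∈ B <;> simp [h] }
  refine (finrank_le_of_lifts hM U (LinearMap.range Λ) fun z hz => ?_).trans
    ((LinearMap.finrank_range_le Λ).trans (by rw [Module.finrank_fintype_fun_eq_card, Nat.card_eq_fintype_card]))
  have hl := isClassFunction_lift (hU z hz).1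
  have hR := memR_lift hM z
  have hfR : ∀ g, MemLocalRing M (blockCoeff B g) := memR_blockCoeff hM hB
  have hfc := Blocks.isClassFunction_blockCoeff B
  refine ⟨conv (lift z) (blockCoeff B), ⟨fun χ => omega (χ : IrrCharacter G).1 (lift z), ?_⟩,
    fun g => ?_, ?_⟩
  · refine eq_of_omega_eq (isClassFunction_ofOmega _) (isClassFunction_conv hl hfc) fun χ => ?_
    show omega (χ : G → ℂ) (ofOmega _) = _
    rw [omega_ofOmega, omega_conv hl hfc, blockCoeff_eq_ofOmega, omega_ofOmega]
    by_cases h : χ ∈ B
    · rw [dif_pos h, blockInd_of_mem h, mul_one]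
    · rw [dif_neg h, blockInd_of_notMem h, mul_zero]
  · rw [conv_eq_sum]
    exact memR_sum hM _ fun x _ => memR_mul hM (hR x) (hfR _)
  · rw [red_conv hM hR hfR, red_lift hM]
    exact (hU z hz).2

/-- The key count: two characters force a uniserial block algebra. -/
theorem exists_dims (hM : IsPModular p M) {B : Set (IrrCharacter G)} (hB : IsPBlock M B)
    (h2 : Nat.card B ≤ 2) :
    ∃ n c : ℕ, c ≤ 2 ∧ degSum B = c * (n * n) ∧ p ^ (Nat.card G).factorization p ∣ c * n := by
  classical
  letI := ModRep.resField hM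
  haveI := res_charP hM
  haveI : Fact p.Prime := ⟨hM.1⟩
  haveI := ModRep.isAlgClosed_res hM
  have := Fintype.ofFinite G
  haveI : Module.Finite (Res M) (MonoidAlgebra (Res M) G) :=
    Module.Finite.of_basis (MonoidAlgebra.basis G (Res M))
  set e := blk M B with he
  have hec : ∀ a, a * e = e * a := fun a => ((fixed_blk B).commute SuppIn.top).symm
  have hee : e * e = e := blk_mul_self hM hB
  let I : Ideal (MonoidAlgebra (Res M) G) :=
    { carrier := {a | a * e = 0}
      zero_mem' := zero_mul e
      add_mem' := fun {a b} (ha : a * e = 0) (hb : b * e = 0) =>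
        show (a + b) * e = 0 by rw [add_mul, ha, hb, add_zero]
      smul_mem' := fun c a (ha : a * e = 0) =>
        show c * a * e = 0 by rw [mul_assoc, ha, mul_zero] }
  have hImem : ∀ a, a ∈ I ↔ a * e = 0 := fun a => Iff.rfl
  haveI : I.IsTwoSided := ⟨fun {a} b (ha : a * e = 0) =>
    show a * b * e = 0 by rw [mul_assoc, hec b, ← mul_assoc, ha, zero_mul]⟩
  let A := MonoidAlgebra (Res M) G ⧸ I
  let q := Ideal.Quotient.mkₐ (Res M) I
  have hq : Function.Surjective q := Ideal.Quotient.mk_surjective
  have hqeq : ∀ a b, q a = q b ↔ a * e = b * e := fun a b => by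
    show Ideal.Quotient.mk I a = Ideal.Quotient.mk I b ↔ _
    rw [Ideal.Quotient.mk_eq_mk_iff_sub_mem, hImem, sub_mul, sub_eq_zero]
  let s : A → MonoidAlgebra (Res M) G := fun x => Function.surjInv hq x * e
  have hs : ∀ a, s (q a) = a * e := fun a => (hqeq _ _).mp (Function.surjInv_eq hq (q a))
  have hqs : ∀ x, q (s x) = x := fun x => by
    obtain ⟨a, rfl⟩ := hq x
    rw [hs, hqeq, mul_assoc, hee]
  let sL : A →ₗ[Res M] MonoidAlgebra (Res M) G :=
    { toFun := s
      map_add' := fun x y => by
        obtain ⟨a, rfl⟩ := hq x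
        obtain ⟨b, rfl⟩ := hq y
        rw [← map_add, hs, hs, hs, add_mul]
      map_smul' := fun c x => by
        obtain ⟨a, rfl⟩ := hq x
        rw [← map_smul, hs, hs, RingHom.id_apply, smul_mul_assoc] }
  have hsinj : Function.Injective sL := fun x y h => by
    rw [← hqs x, ← hqs y]; exact congrArg q h
  haveI : Module.Finite (Res M) A := Module.Finite.of_surjective q.toLinearMap hq
  haveI : Nontrivial A := ⟨⟨0, 1, fun h => blk_ne_zero hM hB (by
    have h' : q 0 = q 1 := by rw [map_zero, map_one]; exact h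
    rw [hqeq, zero_mul, one_mul] at h'
    exact h'.symm)⟩⟩
  have hrange : LinearMap.range sL = LinearMap.range (LinearMap.mulRight (Res M) e) := by
    ext x
    constructor
    · rintro ⟨y, rfl⟩; exact ⟨_, rfl⟩
    · rintro ⟨a, rfl⟩; exact ⟨q a, hs a⟩
  have hdimA : finrank (Res M) A = degSum B := by
    rw [← LinearMap.finrank_range_of_inj hsinj, hrange, finrank_range_blk hM hB]
  -- the symmetrising form
  let τ : Module.Dual (Res M) A := ((MonoidAlgebra.basis G (Res M)).coord 1).comp sL
  have hτ : ∀ a, τ (q a) = (a * e).coeff 1 := fun a => by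
    show ((MonoidAlgebra.basis G (Res M)).coord 1) (s (q a)) = _
    rw [hs]; rfl
  have hsym0 : ∀ a b : MonoidAlgebra (Res M) G, (a * b).coeff 1 = (b * a).coeff 1 := fun a b => by
    rw [coeff_mul_eq_sum, coeff_mul_eq_sum]
    refine Fintype.sum_equiv (Equiv.inv G) _ _ fun y => ?_
    simp [mul_comm]
  have hsymm : ∀ x y : A, τ (x * y) = τ (y * x) := fun x y => by
    obtain ⟨a, rfl⟩ := hq x
    obtain ⟨b, rfl⟩ := hq y
    rw [← map_mul, ← map_mul, hτ, hτ, mul_assoc, hec b, ← mul_assoc, hsym0, mul_assoc]
  have hnd : ∀ x : A, (∀ y, τ (x * y) = 0) → x = 0 := by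
    intro x hx
    obtain ⟨a, rfl⟩ := hq x
    rw [← map_zero q, hqeq, zero_mul]
    refine MonoidAlgebra.ext (Finsupp.ext fun g => ?_)
    have h := hx (q (MonoidAlgebra.single g⁻¹ 1))
    rw [← map_mul, hτ, mul_assoc, hec, ← mul_assoc, MonoidAlgebra.coeff_mul_single_apply] at h
    simpa using h
  -- central elements
  have hfix : ∀ x : A, (∀ y, y * x = x * y) → Fixed ⊤ (sL x) := by
    intro x hx u _
    obtain ⟨a, rfl⟩ := hq x
    show cj u (s (q a)) = s (q a)
    rw [hs]
    have hcm : ∀ b, b * (a * e) = a * e * b := fun b => by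
      have h := hx (q b)
      rw [← map_mul, ← map_mul, hqeq] at h
      rw [← mul_assoc, h, mul_assoc, mul_assoc, hec]
    refine MonoidAlgebra.ext (Finsupp.ext fun g => ?_)
    rw [coeff_cj]
    have h1 := congrArg (fun z : MonoidAlgebra (Res M) G => z.coeff (g * u))
      (hcm (MonoidAlgebra.single u 1))
    simp only [MonoidAlgebra.coeff_single_mul_apply, MonoidAlgebra.coeff_mul_single_apply, one_mul,
      mul_one, mul_inv_cancel_right] at h1
    rw [mul_assoc, h1]
  have hself : ∀ x, sL x * e = sL x := fun x => by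
    show Function.surjInv hq x * e * e = Function.surjInv hq x * e
    rw [mul_assoc, hee]
  have hcenter : finrank (Res M) (Subalgebra.center (Res M) A) ≤ 2 := by
    refine le_trans ?_ ((finrank_fixed_le hM hB
      ((Subalgebra.toSubmodule (Subalgebra.center (Res M) A)).map sL) ?_).trans h2)
    · rw [← LinearEquiv.finrank_eq (Submodule.equivMapOfInjective sL hsinj _)]
      rfl
    · rintro _ ⟨x, hx, rfl⟩
      exact ⟨hfix x ((Subalgebra.mem_center_iff (R := Res M)).mp hx), hself x⟩
  have hindec : ∀ z : A, (∀ y, y * z = z * y) → IsIdempotentElem z → z = 0 ∨ z = 1 := by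
    intro z hz hzz
    obtain ⟨ξ, hξ⟩ := isPBlock_nonempty hM hB
    have hid : sL z * sL z = sL z := by
      obtain ⟨a, rfl⟩ := hq z
      have h : q (a * a) = q a := by rw [map_mul]; exact hzz
      rw [hqeq] at h
      show s (q a) * s (q a) = s (q a)
      rw [hs, mul_assoc a e, ← mul_assoc e a, ← hec a, mul_assoc a e, hee, ← mul_assoc, h]
    rcases mul_blk_cases hM (hfix z hz) hid hB hξ with ⟨-, h⟩ | ⟨-, h⟩ <;>
      rw [← he, hself] at h
    · right
      rw [← hqs z, show s z = e from h, ← map_one q, hqeq, hee, one_mul]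
    · left
      rw [← hqs z, show s z = 0 from h, map_zero]
  obtain ⟨n, f, c, hf, hc, hdim, hdimf⟩ :=
    exists_idempotent_of_center_le_two τ hsymm hnd hindec hcenter
  refine ⟨n, c, hc, by rw [← hdimA, hdim], ?_⟩
  -- a projective right ideal
  obtain ⟨a, rfl⟩ := hq f
  have hid : IsIdempotentElem (a * e) := by
    have h : q (a * a) = q a := by rw [map_mul]; exact hf
    rw [hqeq] at h
    show a * e * (a * e) = a * e
    rw [mul_assoc a e, ← mul_assoc e a, ← hec a, mul_assoc a e, hee, ← mul_assoc, h]
  have hdvd := pow_dvd_finrank_mulRight (p := p) hid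
  have heq : finrank (Res M) (LinearMap.range (LinearMap.mulRight (Res M) (a * e))) = c * n := by
    rw [← hdimf]
    have hmap : (LinearMap.range (LinearMap.mulRight (Res M) (q a))).map sL =
        LinearMap.range (LinearMap.mulRight (Res M) (a * e)) := by
      ext x
      constructor
      · rintro ⟨_, ⟨y, rfl⟩, rfl⟩
        obtain ⟨b, rfl⟩ := hq y
        refine ⟨b, ?_⟩
        show b * (a * e) = s (q b * q a)
        rw [← map_mul, hs, mul_assoc]
      · rintro ⟨b, rfl⟩
        refine ⟨q b * q a, ⟨q b, rfl⟩, ?_⟩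
        show s (q b * q a) = b * (a * e)
        rw [← map_mul, hs, mul_assoc]
    rw [← hmap]
    exact (LinearEquiv.finrank_eq (Submodule.equivMapOfInjective sL hsinj _)).symm
  rwa [heq] at hdvd

/-- A block with two characters has a defect group of order two. -/
theorem card_defectGroup_eq_two (hM : IsPModular p M) {B : Set (IrrCharacter G)} (hB : IsPBlock M B)
    {D : Subgroup G} (hD : IsDefectGroup p M B D) (h2 : Nat.card B = 2) : Nat.card D = 2 := by
  classical
  haveI : Fact p.Prime := ⟨hM.1⟩
  have := Fintype.ofFinite G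
  have := Fintype.ofFinite (IrrCharacter G)
  obtain ⟨e, h, φ, hφ, hea, hdef, hdeg, hh, hall⟩ := BlockDefect.exists_degrees hM hB
  obtain ⟨N, hN, hsum⟩ := BlockDefect.exists_sum_sq hM hB hφ hdeg hh hall
  obtain ⟨n, c, hc, hdim, hdvd⟩ := exists_dims hM hB h2.le
  have hdegsum : degSum B = p ^ ((Nat.card G).factorization p + e) * N := by
    rw [← hsum, degSum]
    exact Finset.sum_congr (by ext χ; simp) fun _ _ => rfl
  set a := (Nat.card G).factorization p
  have hne : c * (n * n) ≠ 0 := by
    rw [← hdim, hdegsum]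
    exact mul_ne_zero (pow_ne_zero _ hM.1.ne_zero) (fun h0 : N = 0 => hN (h0 ▸ dvd_zero p))
  have hc0 : c ≠ 0 := fun h => hne (by rw [h, zero_mul])
  have hn0 : n ≠ 0 := fun h => hne (by rw [h, mul_zero, mul_zero])
  have hv : a + e = c.factorization p + (n.factorization p + n.factorization p) := by
    have h1 : (p ^ (a + e) * N).factorization p = a + e := by
      rw [Nat.factorization_mul (pow_ne_zero _ hM.1.ne_zero) (fun h0 : N = 0 => hN (h0 ▸ dvd_zero p)),
        Finsupp.add_apply, hM.1.factorization_pow, Finsupp.single_eq_same,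
        Nat.factorization_eq_zero_of_not_dvd hN, add_zero]
    rw [← h1, ← hdegsum, hdim, Nat.factorization_mul hc0 (mul_ne_zero hn0 hn0),
      Nat.factorization_mul hn0 hn0]
    simp only [Finsupp.add_apply]
  have hp : a ≤ c.factorization p + n.factorization p := by
    have := (hM.1.pow_dvd_iff_le_factorization (mul_ne_zero hc0 hn0)).mp hdvd
    rwa [Nat.factorization_mul hc0 hn0, Finsupp.add_apply] at this
  have hlt : e < a := by
    by_contra hlt
    have hea' : e = a := by omega
    have hsing : blockOf M (φ : G → ℂ) = {φ} := by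
      refine (singleton_iff_not_dvd hM φ).mp ?_
      obtain ⟨k, hk⟩ := charDegree_dvd_card φ
      have hd := charDegree_pos φ
      rw [hk, Nat.mul_div_cancel_left k hd]
      intro hpk
      have hdvd' : p ^ (a + 1) ∣ Nat.card G := by
        rw [hk, pow_succ]
        exact Nat.mul_dvd_mul (hdeg ▸ hea' ▸ dvd_mul_right _ _) hpk
      have := (hM.1.pow_dvd_iff_le_factorization Nat.card_pos.ne').mp hdvd'
      omega
    rw [isPBlock_eq_blockOf hM hB hφ, hsing] at h2
    simp at h2
  have hcp : c.factorization p ≤ 1 ∧ (c.factorization p = 1 → p = 2) := by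
    have h0 : c = 1 ∨ c = 2 := by omega
    rcases h0 with rfl | rfl
    · simp
    · rw [Nat.prime_two.factorization]
      rcases eq_or_ne p 2 with rfl | h
      · simp
      · simp [Finsupp.single_eq_of_ne h]
  rw [card_defectGroup hM hB hD, hdef, hcp.2 (by omega), show a - e = 1 by omega, pow_one]

/-- A block with a defect group of order two has two characters. -/
theorem card_block_eq_two (hM : IsPModular p M) {B : Set (IrrCharacter G)} (hB : IsPBlock M B)
    {D : Subgroup G} (hD : IsDefectGroup p M B D) (h2 : Nat.card D = 2) : Nat.card B = 2 := by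
  classical
  haveI : Fact p.Prime := ⟨hM.1⟩
  obtain rfl : p = 2 := by
    obtain ⟨k, hk⟩ := (isPGroup_defectGroup hM hD).exists_card_eq
    rw [h2] at hk
    exact ((Nat.prime_dvd_prime_iff_eq hM.1 Nat.prime_two).mp
      (hk ▸ dvd_pow_self p fun h => by rw [h, pow_zero] at hk; omega))
  haveI : Fintype G := Fintype.ofFinite G
  haveI : Nontrivial D := Finite.one_lt_card_iff_nontrivial.mp (by omega)
  obtain ⟨⟨x, hxD⟩, hx1⟩ := exists_ne (1 : D)
  have hord : orderOf x = 2 := by
    have h := orderOf_dvd_natCard (⟨x, hxD⟩ : D)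
    rw [h2, Subgroup.orderOf_mk] at h
    exact ((Nat.dvd_prime Nat.prime_two).mp h).resolve_left fun h1 =>
      hx1 (Subtype.ext (orderOf_eq_one_iff.mp h1))
  have hDx : D = Subgroup.zpowers x := (Subgroup.eq_of_le_of_card_ge
    (Subgroup.zpowers_le.mpr hxD) (by rw [Nat.card_zpowers, hord, h2])).symm
  obtain ⟨g, hg, P, hP⟩ := hD
  have hgD : ∀ d ∈ D, Commute d g := fun d hd => by
    rw [hP] at hd
    obtain ⟨u, -, rfl⟩ := hd
    exact (SecondMain.commute_iff_mem_centralizer_singleton.mp u.2).symm
  set H := Subgroup.centralizer ({x} : Set G) with hHdef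
  have hH : ∀ u, u ∈ H ↔ Commute x u := fun _ => SecondMain.commute_iff_mem_centralizer_singleton
  have hxk : ∃ k, orderOf x = 2 ^ k := ⟨1, by rw [hord, pow_one]⟩
  obtain ⟨b, hb, -⟩ := exists_induced_coeff_not_memI hM hxk hH hB
    (y := ⟨g, (hH g).mpr (hgD x hxD)⟩) hg.2.1
  let z : H := ⟨x, (hH x).mpr (Commute.refl x)⟩
  have hzc : z ∈ Subgroup.center H := Subgroup.mem_center_iff.mpr fun u =>
    Subtype.ext ((hH u).mp u.2).eq.symm
  have hz2 : orderOf z = 2 := by rw [← Subgroup.orderOf_coe]; exact hord
  obtain ⟨θ, hθ, hθz⟩ : ∃ θ ∈ b, (θ : H → ℂ) z = (θ : H → ℂ) 1 := by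
    by_contra hcon
    push Not at hcon
    have hsing := ofOmega_singular_eq_zero hM (blockInd_mem_intRing hM hb.1) (y := z) (by rw [hz2])
    have hneg : ∀ η ∈ b, (η : H → ℂ) z = -(η : H → ℂ) 1 := fun η hη => by
      obtain ⟨c, hc1, hc⟩ := SecondMain.exists_central_scalar hzc η
      have := hc 1
      rw [mul_one] at this
      rw [hz2, sq, mul_self_eq_one_iff] at hc1
      rcases hc1 with rfl | rfl
      · exact absurd (by rw [this, one_mul]) (hcon η hη)
      · rw [this, neg_one_mul]
    rw [← blockCoeff_eq_ofOmega] at hsing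
    refine BlocksNormal.blockCoeff_one_ne_zero (isPBlock_nonempty hM hb.1) ?_
    have : blockCoeff b z = -blockCoeff b 1 := by
      simp only [blockCoeff, ← mul_neg]
      congr 1
      rw [finsum_mem_eq_finite_toFinset_sum _ (Set.toFinite b),
        finsum_mem_eq_finite_toFinset_sum _ (Set.toFinite b), ← Finset.sum_neg_distrib]
      refine Finset.sum_congr rfl fun η hη => ?_
      rw [hneg η ((Set.toFinite b).mem_toFinset.mp hη), map_neg, mul_neg]
    rw [hsing] at this
    exact neg_eq_zero.mp this.symm
  exact (SecondMain.defect_two hM hord hB (hDx ▸ ⟨g, hg, P, hP⟩) hH hb hθ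
    (fun u hu => by rw [show u = z from Subtype.ext hu]; exact hθz)).1

end Cfsg.Agent.BlockTwo
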